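import Cfsg.Agent.CosetEnum.Cox

set_option autoImplicit false

/-!
The Coxeter group of type Y322 with the spider relation: letters `0 = a`, `1, 2, 3` the long arm,
`4, 5` and `6, 7` the short arms.
-/

namespace CfsgLib.CosetEnum.Y322

/-- Letters as generators. -/
def en (x : ℕ) : Fin 8 := ⟨x % 8, Nat.mod_lt _ (by decide)⟩

/-- The Coxeter graph. -/
def edges : List (Fin 8 × ℕ × Fin 8) :=
  [(0, 3, 1), (1, 3, 2), (2, 3, 3), (0, 3, 4), (4, 3, 5), (0, 3, 6), (6, 3, 7)]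

/-- The spider word. -/
def spider : List ℕ := (List.replicate 10 [0, 1, 2, 0, 4, 5, 0, 6, 7]).flatten

/-- The extra relators as words. -/
def exW : List (List ℕ) := [spider]

/-- The extra relators. -/
def extra : List (FreeGroup (Fin 8)) := exW.map fun w => (w.map fun x => FreeGroup.of (en x)).prod

/-- All relators as words. -/
def words : List (List ℕ) := [
  [0, 0],
  [0, 1, 0, 1, 0, 1],
  [0, 2, 0, 2],
  [0, 3, 0, 3],
  [0, 4, 0, 4, 0, 4],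
  [0, 5, 0, 5],
  [0, 6, 0, 6, 0, 6],
  [0, 7, 0, 7],
  [1, 1],
  [1, 2, 1, 2, 1, 2],
  [1, 3, 1, 3],
  [1, 4, 1, 4],
  [1, 5, 1, 5],
  [1, 6, 1, 6],
  [1, 7, 1, 7],
  [2, 2],
  [2, 3, 2, 3, 2, 3],
  [2, 4, 2, 4],
  [2, 5, 2, 5],
  [2, 6, 2, 6],
  [2, 7, 2, 7],
  [3, 3],
  [3, 4, 3, 4],
  [3, 5, 3, 5],
  [3, 6, 3, 6],
  [3, 7, 3, 7],
  [4, 4],
  [4, 5, 4, 5, 4, 5],
  [4, 6, 4, 6],
  [4, 7, 4, 7],
  [5, 5],
  [5, 6, 5, 6],
  [5, 7, 5, 7],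
  [6, 6],
  [6, 7, 6, 7, 6, 7],
  [7, 7],
  [0, 1, 2, 0, 4, 5, 0, 6, 7, 0, 1, 2, 0, 4, 5, 0, 6, 7, 0, 1, 2, 0, 4, 5, 0, 6, 7, 0, 1, 2, 0, 4, 5, 0, 6, 7, 0, 1, 2, 0, 4, 5, 0, 6, 7, 0, 1, 2, 0, 4, 5, 0, 6, 7, 0, 1, 2, 0, 4, 5, 0, 6, 7, 0, 1, 2, 0, 4, 5, 0, 6, 7, 0, 1, 2, 0, 4, 5, 0, 6, 7, 0, 1, 2, 0, 4, 5, 0, 6, 7]]

theorem exW_eq (K : Type) [Group K] (f : Fin 8 → K) :
    extra.map (FreeGroup.lift f) = exW.map (prodw (f ∘ en)) := by
  unfold extra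
  rw [List.map_map]
  refine List.map_congr_left fun w _ => ?_
  simp [Function.comp_def, map_list_prod, prodw]

/-- The setup. -/
noncomputable def setup : Setup (Fin 8) where
  edges := edges
  extra := extra
  k := 8
  en := en
  ix := Fin.val
  exW := exW
  words := words
  en_ix := fun a => Fin.ext (Nat.mod_eq_of_lt a.isLt)
  ix_lt := fun a => a.isLt
  ix_en := fun x hx => Nat.mod_eq_of_lt hx
  node := fun a => by fin_cases a <;> decide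
  exW_eq := fun K _ f _ => exW_eq K f
  words_eq := by decide +kernel
  exW_lt := by decide +kernel

end CfsgLib.CosetEnum.Y322
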